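import Cfsg.Agent.H695.Spor.RowA
import Cfsg.Agent.H620.RowSporB

/-!
# The rows of sporadic groups for S4849, second part (helper695)
-/

set_option autoImplicit false

namespace Cfsg.Agent.H695.Spor.RowB

open Cfsg Cfsg.Agent.H620 Cfsg.Agent.H713 Cfsg.Agent.H620.SporCrit Cfsg.Agent.H620.RowSporA
open Cfsg.Agent.H665.NoPQ Cfsg.Agent.H419.Row Cfsg.Agent.H419.Count Cfsg.Agent.H419.LeechIrr
open Cfsg.Agent.H419.Spor.Mathieu Cfsg.Agent.H419.TwoTrans Cfsg.Agent.H695.Spor.Tool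
open Cfsg.Agent.H419.LeechFix Cfsg.Agent.Characters.Core
open Cfsg.Agent.SporadicA.Co0Mono Cfsg.Agent.SporadicA.Co1Simple

universe u

theorem tri_j4 {K : Type*} [Group K] (h : Spor.IsoJ4 K) : Tri K := by
  obtain ⟨e⟩ := h
  have hcard : Nat.card Spor.J4 = 86775571046077562880 := Cfsg.Agent.H858.FixJ4.card_J4
  have hfin : Finite Spor.J4 := Nat.finite_of_card_ne_zero (by rw [hcard]; norm_num)
  have : Fact (Nat.Prime 29) := ⟨by norm_num⟩
  have : Fact (Nat.Prime 43) := ⟨by norm_num⟩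
  exact Tri.mulEquiv (tri_of_dz 23 29 43 (Cfsg.Agent.H723.Spor.JFour.dz_big (by simp))
    (Cfsg.Agent.H723.Spor.JFour.dz_big (by simp)) (Cfsg.Agent.H723.Spor.JFour.dz_big (by simp))
    (by rw [hcard]; norm_num) (by rw [hcard]; norm_num) (by rw [hcard]; norm_num) (by norm_num)
    (by norm_num) (by norm_num)) e.symm

theorem tri_fi23 {K : Type*} [Group K] (h : Spor.IsoFi23 K) : Tri K := by
  obtain ⟨e⟩ := h
  have hcard : Nat.card Spor.Fi23 = 4089470473293004800 := Cfsg.Agent.Fischer.Fi23Simple.card_Fi23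
  have hfin : Finite Spor.Fi23 := Cfsg.Agent.H713.Spor.Fi23.finite_fi23
  have : Fact (Nat.Prime 13) := ⟨by norm_num⟩
  have : Fact (Nat.Prime 17) := ⟨by norm_num⟩
  obtain ⟨hi, ho⟩ := Cfsg.Agent.S1689.result
  have h13 : HasDZ 13 Spor.Fi23 := by
    refine Cfsg.Agent.H690.Spor.RankThree.hasDZ_of_index _ (k := 3510) (l := 28160) hi ho (by norm_num)
      (by norm_num) (by norm_num) ?_ ?_ ?_
    · right
      rw [hcard]
      norm_num
    · rw [hcard]
      exact factorization_eq_one (by norm_num) (by norm_num)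
    · rw [Cfsg.Agent.H690.Spor.RankRows.fac (n := 1) (m := 31671 * 270 * 28160) (by norm_num) (by norm_num)
        (by norm_num)]
      decide
  exact Tri.mulEquiv (tri_of_dz 13 17 23 h13 Cfsg.Agent.H713.Spor.Fi23.hasDZ_17
    Cfsg.Agent.H713.Spor.Fi23.hasDZ_23
    (by rw [hcard]; norm_num) (by rw [hcard]; norm_num) (by rw [hcard]; norm_num) (by norm_num)
    (by norm_num) (by norm_num)) e.symm

theorem tri_fi24 {K : Type*} [Group K] (h : Spor.IsoFi24' K) : Tri K := by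
  obtain ⟨e⟩ := h
  have hfin := Cfsg.Agent.H713.Spor.FiTF.finite'
  have hcard : Nat.card Spor.Fi24' = 1255205709190661721292800 := Cfsg.Agent.R08.FiTwentyFour.card_commutator
  have : Fact (Nat.Prime 17) := ⟨by norm_num⟩
  have : Fact (Nat.Prime 29) := ⟨by norm_num⟩
  exact Tri.mulEquiv (tri_of_dz 17 23 29 Cfsg.Agent.H713.Spor.FiTF.hasDZ_17
    Cfsg.Agent.H713.Spor.FiTF.hasDZ_23 Cfsg.Agent.H713.Spor.FiTF.hasDZ_29
    (by rw [hcard]; norm_num) (by rw [hcard]; norm_num) (by rw [hcard]; norm_num) (by norm_num)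
    (by norm_num) (by norm_num)) e.symm

theorem tri_m {K : Type*} [Group K] (h : Spor.IsoM K) : Tri K := by
  have hcard := Cfsg.Agent.H713.Spor.M.card_eq h
  have hfin : Finite K := Nat.finite_of_card_ne_zero (by rw [hcard]; norm_num)
  exact tri_of_dz 29 41 59 (Cfsg.Agent.H713.Spor.M.hasDZ_29 h) (Cfsg.Agent.H713.Spor.M.hasDZ_41 h)
    (Cfsg.Agent.H713.Spor.M.hasDZ_59 h) (by rw [hcard]; norm_num) (by rw [hcard]; norm_num)
    (by rw [hcard]; norm_num) (by norm_num) (by norm_num) (by norm_num)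

theorem tri_b (hS : Cfsg.Agent.H690.Spor.Trans.AllKnown) {K : Type u} [Group K] (h : Spor.IsoB K) : Tri K := by
  have h23 := fun p hp => Cfsg.Agent.H690.Spor.Trans.b hS h (p := p) hp
  obtain ⟨e⟩ := h
  have hcard : Nat.card K = 4154781481226426191177580544000000 := by
    rw [Nat.card_congr e.toEquiv]
    exact (Cfsg.Agent.S1704.result : Cfsg.IsB Cfsg.Spor.BabyMonster).2
  have hfin : Finite K := Nat.finite_of_card_ne_zero (by rw [hcard]; norm_num)
  have : Fact (Nat.Prime 31) := ⟨by norm_num⟩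
  have : Fact (Nat.Prime 47) := ⟨by norm_num⟩
  exact tri_of_dz 23 31 47 (h23 23 (by simp)) (h23 31 (by simp)) (h23 47 (by simp))
    (by rw [hcard]; norm_num) (by rw [hcard]; norm_num) (by rw [hcard]; norm_num) (by norm_num)
    (by norm_num) (by norm_num)

theorem tri_ru {K : Type u} [Group K] (h : Spor.IsoRu K) : Tri K := by
  have h7 := fun p hp => Cfsg.Agent.H690.Spor.Ru.hasDZ h (p := p) hp
  obtain ⟨e⟩ := h
  have hcard : Nat.card K = 145926144000 := by
    rw [Nat.card_congr (e.trans Cfsg.Agent.RuLat.Main.equiv).toEquiv]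
    exact Cfsg.Agent.SporadicB.RuOrder.card_H
  have hfin : Finite K := Nat.finite_of_card_ne_zero (by rw [hcard]; norm_num)
  have : Fact (Nat.Prime 13) := ⟨by norm_num⟩
  have : Fact (Nat.Prime 29) := ⟨by norm_num⟩
  exact tri_of_dz 7 13 29 (h7 7 (by simp)) (h7 13 (by simp)) (h7 29 (by simp))
    (by rw [hcard]; norm_num) (by rw [hcard]; norm_num) (by rw [hcard]; norm_num) (by norm_num)
    (by norm_num) (by norm_num)

/-- A group containing `M22` with a character of degree 22: the element of order 6. -/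
theorem vord_six {S : Type*} [Group S] [Finite S] [IsSimpleGroup S] (μ : IrrCharacter S) (hμ1 : (μ : S → ℂ) 1 = 22)
    (k : St2 →* S) (ho : orderOf (k Cfsg.Agent.H419.Spor.HS.y6) = 6) : VOrd S 6 := by
  obtain ⟨θ, hθ1, hθ⟩ := exists_irr2
  have hθ21 : charDegree (θ : St2 → ℂ) = 21 := by
    have h1 := hθ 1
    have h2 : Nat.card (MulAction.fixedBy GolayPt (((1 : St2) : St1) : M24)) = 24 := by
      rw [Subgroup.coe_one, Subgroup.coe_one, MulAction.fixedBy_one_eq_univ, Nat.card_coe_set_eq,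
        Set.ncard_univ, Nat.card_eq_fintype_card]
      decide
    rw [h2, Cfsg.Agent.Blocks.Basic.irr_one_eq_charDegree θ.2] at h1
    have h3 : (24 : ℕ) = 3 + charDegree (θ : St2 → ℂ) := by exact_mod_cast h1
    omega
  have hθx : (θ : St2 → ℂ) Cfsg.Agent.H419.Spor.HS.y6 = -1 := by
    have h1 := hθ Cfsg.Agent.H419.Spor.HS.y6
    rw [Cfsg.Agent.H419.Spor.HS.y6_fix] at h1
    linear_combination -h1
  refine ⟨k Cfsg.Agent.H419.Spor.HS.y6, ⟨μ, fun α => ?_⟩, ho⟩
  have hirr : IsIrrCharacter S ((μ : S → ℂ) ∘ α) :=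
    isIrr_comp (α : S →* S) α.surjective μ.2
  have hc := isCharacter_comp k (isIrr_isCharacter hirr)
  have h1 : (((μ : S → ℂ) ∘ α) ∘ k) 1 = 22 := by
    simp [hμ1]
  rcases Cfsg.Agent.H419.Spor.HS.char22 Cfsg.Agent.H419.Spor.HS.isM22 hθ21 hc h1 with h2 | h2
  · exfalso
    have h3 : ((μ : S → ℂ) ∘ α) (k Cfsg.Agent.H419.Spor.HS.y6) = ((μ : S → ℂ) ∘ α) 1 := by
      have h4 := h2 Cfsg.Agent.H419.Spor.HS.y6
      rw [Function.comp_apply] at h4
      rw [h4]
      simp [hμ1]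
    have hs : k Cfsg.Agent.H419.Spor.HS.y6 ≠ 1 := fun h => by
      rw [h, orderOf_one] at ho
      norm_num at ho
    have h4 := eq_one_of_const hirr hs h3
    have h5 := congrFun h4 1
    simp only [Function.comp_apply, map_one, hμ1, Pi.one_apply] at h5
    norm_num at h5
  · have h3 := h2 Cfsg.Agent.H419.Spor.HS.y6
    rw [hθx] at h3
    simpa using h3

theorem tri_hs {K : Type*} [Group K] (h : Spor.IsoHS K) : Tri K := by
  obtain ⟨e⟩ := h
  obtain ⟨hs, hcard⟩ := Cfsg.Agent.H419.Spor.HS.facts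
  have hfin : Finite Spor.HS := Nat.finite_of_card_ne_zero (by rw [hcard]; norm_num)
  obtain ⟨μ, hμ⟩ := irr22 Cfsg.Agent.H419.Spor.HS.inc Cfsg.Agent.H419.Spor.HS.inc_injective
    (by rw [hcard]; norm_num) (by rw [hcard]; norm_num)
    Cfsg.Agent.H419.Spor.HS.k ⟨Cfsg.Agent.H419.Spor.HS.y6, fun h => by
      have := Cfsg.Agent.H419.Spor.HS.order
      rw [h, orderOf_one] at this
      norm_num at this⟩ Cfsg.Agent.H419.Spor.HS.inc_k (w := Spor.leechV) (fun h => by
      have := congrArg (fun v : leechLattice => (v : GolayPt → ℤ) none) h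
      exact absurd this (by decide)) Cfsg.Agent.H419.Spor.HS.inc_fix
  have hμ1 : (μ : Spor.HS → ℂ) 1 = 22 := by
    have h1 := hμ 1
    have h6 : lchi Cfsg.Agent.H419.Spor.HS.inc 1 = 24 := by
      rw [lchi, map_one, Cfsg.Agent.SigZeroCo2.Lin.tr8_one]
      norm_num
    rw [h6] at h1
    linear_combination -h1
  exact Tri.mulEquiv (tri_of_vord (vord_of_dz (p := 7) (Cfsg.Agent.H713.Spor.HS.hasDZ 7 (Or.inl rfl))
    (by rw [hcard]; norm_num)) (vord_of_dz (p := 11) (Cfsg.Agent.H713.Spor.HS.hasDZ 11 (Or.inr rfl))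
    (by rw [hcard]; norm_num)) (vord_six μ hμ1 _ Cfsg.Agent.H419.Spor.HS.order) (by norm_num) (by norm_num)
    (by norm_num)) e.symm

theorem tri_mcl {K : Type*} [Group K] (h : Spor.IsoMcL K) : Tri K := by
  obtain ⟨hfin, -, hcard, -⟩ := TypeM.FactsMcL.facts h
  obtain ⟨e⟩ := h
  obtain ⟨hs, hc⟩ := Cfsg.Agent.H713.Spor.McL.facts
  have hfin' := Nat.finite_of_card_ne_zero (α := ↥(Cfsg.Agent.SporadicRecognition.HSRank.K (-Spor.leechV) Spor.leechU))
    (by rw [hc]; norm_num)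
  obtain ⟨μ, -, hμ⟩ := Cfsg.Agent.H713.Spor.McL.exists_22
  have hdeg := Cfsg.Agent.H713.Spor.HS.degree_of_lchi hμ
  have hμ1 : (μ : ↥(Cfsg.Agent.SporadicRecognition.HSRank.K (-Spor.leechV) Spor.leechU) → ℂ) 1 = 22 := by
    have h1 : charDegree (μ : ↥(Cfsg.Agent.SporadicRecognition.HSRank.K (-Spor.leechV) Spor.leechU) → ℂ) = 22 := by omega
    rw [Cfsg.Agent.Blocks.Basic.irr_one_eq_charDegree μ.2, h1]
    norm_num
  have ho : orderOf (Cfsg.Agent.H713.Spor.McL.k Cfsg.Agent.H419.Spor.HS.y6) = 6 := by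
    have h1 : orderOf ((Cfsg.Agent.SporadicRecognition.HSRank.K (-Spor.leechV) Spor.leechU).subtype
        (Cfsg.Agent.H713.Spor.McL.k Cfsg.Agent.H419.Spor.HS.y6)) = 6 := by
      show orderOf (permCo0 ((Cfsg.Agent.H419.Spor.HS.y6 : St1) : M24)) = 6
      rw [orderOf_injective permCo0 Cfsg.Agent.CoOneType.Thirteen.permCo0_injective,
        Subgroup.orderOf_coe, Subgroup.orderOf_coe]
      exact Cfsg.Agent.H419.Spor.HS.y6_order
    rwa [orderOf_injective _ (Subgroup.subtype_injective _)] at h1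
  have h6 : VOrd ↥(Cfsg.Agent.SporadicRecognition.HSRank.K (-Spor.leechV) Spor.leechU) 6 := vord_six μ hμ1 _ ho
  obtain ⟨x, hx, hxo⟩ := h6
  have h6' : VOrd K 6 := ⟨_, hx.mulEquiv (Cfsg.Agent.H713.Spor.McL.mclEquiv.symm.trans e.symm), by
    rw [MulEquiv.orderOf_eq, hxo]⟩
  exact tri_of_vord (vord_of_dz (HasDZ.mulEquiv e.symm Cfsg.Agent.H713.Spor.McL.hasDZ_seven)
    (by rw [hcard]; norm_num)) (vord_of_dz (HasDZ.mulEquiv e.symm hasDZ_mcl)
    (by rw [hcard]; norm_num)) h6' (by norm_num) (by norm_num)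
    (by norm_num)

theorem arith_suz' : ∀ f : ℕ, f < 1782 → f * (1781 - f) ∣ 1782 * 416 * 1365 →
    13 ∣ f ∨ f ∈ ([21, 80, 1701, 1760] : List ℕ) := by
  decide +kernel

theorem arith_suz {f g D : ℕ} (h1 : f + g = 416 + 1365) (h2 : f * g * D = (1 + 416 + 1365) * 416 * 1365)
    (h3 : f ≠ g → IsSquare D) : 13 ∣ f := by
  have hg : g = 1781 - f := by omega
  subst hg
  rcases arith_suz' f (by omega) ⟨D, h2.symm⟩ with h | h
  · exact h
  · exfalso
    obtain ⟨r, hr⟩ := h3 (by omega)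
    simp only [List.mem_cons, List.not_mem_nil, or_false] at h
    rcases h with rfl | rfl | rfl | rfl
    · have h4 : D = 27378 := by omega
      rw [h4] at hr
      have h5 : r < 166 := by nlinarith
      have h6 : 165 < r := by nlinarith
      omega
    · have h4 : D = 7436 := by omega
      rw [h4] at hr
      have h5 : r < 87 := by nlinarith
      have h6 : 86 < r := by nlinarith
      omega
    · have h4 : D = 7436 := by omega
      rw [h4] at hr
      have h5 : r < 87 := by nlinarith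
      have h6 : 86 < r := by nlinarith
      omega
    · have h4 : D = 27378 := by omega
      rw [h4] at hr
      have h5 : r < 166 := by nlinarith
      have h6 : 165 < r := by nlinarith
      omega

theorem hasDZ_suz_13 {K : Type u} [Group K] (h : Spor.IsoSuz K) : HasDZ 13 K := by
  have hc : Nat.card Spor.Suz = 448345497600 :=
    Cfsg.Agent.OrdDiv.table_spor Spor.Suz (.suz, 448345497600) (by decide +kernel) ⟨MulEquiv.refl _⟩
  have hfin : Finite Spor.Suz := Nat.finite_of_card_ne_zero (by rw [hc]; norm_num)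
  obtain ⟨e⟩ := h
  have : Fact (Nat.Prime 13) := ⟨by norm_num⟩
  refine HasDZ.mulEquiv e.symm ?_
  obtain ⟨h1, q₁, q₂, h2, h3⟩ := Cfsg.Agent.S1680.result
  obtain ⟨R, hR⟩ := Cfsg.Agent.H690.Spor.RankThree.R3.of_index _ (k := 416) (l := 1365) h1 h2 h3 (by norm_num)
    (by norm_num) (by norm_num)
  have hfq := Nat.finite_of_card_ne_zero (α := _ ⧸ (((Subgroup.closure ({Cfsg.Spor.Suz.a, Cfsg.Spor.Suz.b, Cfsg.Spor.Suz.c, Cfsg.Spor.Suz.d, Cfsg.Spor.Suz.e, Cfsg.Spor.Suz.f} : Set (FreeGroup Cfsg.Spor.Suz.Gen))).map (PresentedGroup.mk (Cfsg.Spor.coxRelators Cfsg.Spor.Suz.edges ∪ {r | r ∈ Cfsg.Spor.Suz.extra})))))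
    (by rw [← Subgroup.index, h1]; norm_num)
  classical
  have := Fintype.ofFinite (_ ⧸ (((Subgroup.closure ({Cfsg.Spor.Suz.a, Cfsg.Spor.Suz.b, Cfsg.Spor.Suz.c, Cfsg.Spor.Suz.d, Cfsg.Spor.Suz.e, Cfsg.Spor.Suz.f} : Set (FreeGroup Cfsg.Spor.Suz.Gen))).map (PresentedGroup.mk (Cfsg.Spor.coxRelators Cfsg.Spor.Suz.edges ∪ {r | r ∈ Cfsg.Spor.Suz.extra})))))
  obtain ⟨χ₁, χ₂, f, g, D, hf, hg, -, hfg, hD, hsq⟩ := hR.frame
  have h13 := arith_suz hfg hD hsq
  refine dz_of_val (n := 1) (d := f) (by norm_num) χ₁ hf (by simpa using h13) ?_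
  rw [hc]
  exact factorization_eq_one (by norm_num) (by norm_num)

theorem tri_suz {K : Type u} [Group K] (h : Spor.IsoSuz K) : Tri K := by
  have hfin := Cfsg.Agent.H690.Spor.SuzRow.finite h
  have h13 := hasDZ_suz_13 h
  have hcard : Nat.card K = 448345497600 := by
    obtain ⟨e⟩ := h
    rw [Nat.card_congr e.toEquiv]
    exact Cfsg.Agent.OrdDiv.table_spor Spor.Suz (.suz, 448345497600) (by decide +kernel) ⟨MulEquiv.refl _⟩
  have : Fact (Nat.Prime 13) := ⟨by norm_num⟩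
  exact tri_of_dz 7 11 13 (Cfsg.Agent.H690.Spor.RankRows.suz h (Or.inl rfl))
    (Cfsg.Agent.H690.Spor.RankRows.suz h (Or.inr rfl)) h13
    (by rw [hcard]; norm_num) (by rw [hcard]; norm_num) (by rw [hcard]; norm_num) (by norm_num) (by norm_num)
    (by norm_num)

theorem hasDZ_fi22_7 {K : Type u} [Group K] (e : K ≃* Spor.Fi22) : HasDZ 7 K := by
  have hc := Cfsg.Agent.H713.Spor.Fi22.card_fi22 (MulEquiv.refl Spor.Fi22)
  have hfin : Finite Spor.Fi22 := Nat.finite_of_card_ne_zero (by rw [hc]; norm_num)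
  obtain ⟨h1, h2⟩ := Cfsg.Agent.S1687.result
  refine HasDZ.mulEquiv e.symm ?_
  refine Cfsg.Agent.H690.Spor.RankThree.hasDZ_of_index _ (k := 693) (l := 2816) h1 h2 (by norm_num) (by norm_num)
    (by norm_num) (Or.inl (by decide)) ?_ ?_
  · rw [hc]
    exact factorization_eq_one (by norm_num) (by norm_num)
  · rw [Cfsg.Agent.H690.Spor.RankRows.fac (n := 1) (m := 3510 * 99 * 2816) (by norm_num) (by norm_num)
      (by norm_num)]
    decide

theorem tri_fi22 {K : Type u} [Group K] (h : Spor.IsoFi22 K) : Tri K := by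
  obtain ⟨e⟩ := h
  have hc := Cfsg.Agent.H713.Spor.Fi22.card_fi22 e
  have hfin : Finite K := Nat.finite_of_card_ne_zero (by rw [hc]; norm_num)
  have : Fact (Nat.Prime 13) := ⟨by norm_num⟩
  exact tri_of_dz 7 11 13 (hasDZ_fi22_7 e) (Cfsg.Agent.H713.Spor.Fi22.hasDZ_11 e)
    (Cfsg.Agent.H713.Spor.Fi22.hasDZ_13 e)
    (by rw [hc]; norm_num) (by rw [hc]; norm_num) (by rw [hc]; norm_num) (by norm_num) (by norm_num)
    (by norm_num)

end Cfsg.Agent.H695.Spor.RowB
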