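import Cfsg.Agent.H713.Invol

/-!
# The numerical criterion for characters of defect zero, with the fusion number (helper695)

This is `H713.hasDZ_of_card` where `e` is tied to the number of conjugate powers.
-/

set_option autoImplicit false
set_option linter.unusedSectionVars false

namespace Cfsg.Agent.H695.Spor.InvolFus

open Cfsg Cfsg.Agent.Characters.Core Cfsg.Agent.Blocks.Basic Cfsg.Agent.H665.NoPQ Cfsg.Agent.H713
open Cfsg.Agent.H713.Count Cfsg.Agent.H665.OddCent
open scoped ComplexConjugate

variable {G : Type*} [Group G] {p : ℕ} [hp : Fact p.Prime]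

/-- The numerical criterion: all centralizers of involutions have order `m`, prime to `p`
(`hasDZ_of_card` of helper713, with the fusion number). -/
theorem hasDZ_of_card_fus [Finite G] (hp2 : p ≠ 2) (hG : (Nat.card G).factorization p = 1)
    (h2 : 2 ∣ Nat.card G) {m : ℕ}
    (hm : ∀ u : G, orderOf u = 2 → Nat.card (Subgroup.centralizer ({u} : Set G)) = m) (hpm : ¬ p ∣ m)
    (hnum : ∀ (e a b : ℕ) (x t : G), (fus (p := p) x).card = e → orderOf x = p → orderOf t = 2 →
      Nat.card ↥(Subgroup.centralizer ({x} : Set G) ⊓ Subgroup.centralizer ({t} : Set G)) = b →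
      e ∣ p - 1 → Even e → b ∣ m → Odd b → Odd a → p * (e * (a * b)) ∣ Nat.card G →
      (e * (a * b)) % p = (Nat.card G / p) % p → (a * m) % p = (Nat.card G / p) % p → False) :
    HasDZ p G := by
  classical
  by_contra hno
  have hodd2 : 2 < p := lt_of_le_of_ne hp.out.two_le (Ne.symm hp2)
  have hC := oddCent_of_invol (p := p) fun u hu => by rw [hm u hu]; exact hpm
  have hpG : p ∣ Nat.card G := by
    have := Nat.ordProj_dvd (Nat.card G) p
    rwa [hG, pow_one] at this
  -- an involution inverting an element of order `p`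
  have : Fact (Nat.Prime 2) := ⟨Nat.prime_two⟩
  obtain ⟨t, ht⟩ := exists_prime_orderOf_dvd_card' 2 h2
  obtain ⟨u, hu, ⟨k, hk⟩, htu⟩ := exists_inverted_of_no_defectZero hC hno (orderOf_two ht).1 (orderOf_two ht).2
  have hk0 : k ≠ 0 := by
    rintro rfl
    rw [pow_zero, orderOf_eq_one_iff] at hk
    exact hu hk
  obtain ⟨x, hx, htx⟩ : ∃ x : G, orderOf x = p ∧ t * x * t⁻¹ = x⁻¹ := by
    refine ⟨u ^ p ^ (k - 1), ?_, ?_⟩
    · rw [orderOf_pow, hk, Nat.gcd_eq_right (pow_dvd_pow p (Nat.sub_le k 1)),
        Nat.pow_div (Nat.sub_le k 1) hp.out.pos]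
      have : k - (k - 1) = 1 := by omega
      rw [this, pow_one]
    · rw [← conj_pow, htu, inv_pow]
  have hx1 : x ≠ 1 := by
    rintro rfl
    rw [orderOf_one] at hx
    omega
  have hxp : x ^ p = 1 := by rw [← hx]; exact pow_orderOf_eq_one x
  have hCx : Odd (Nat.card (Subgroup.centralizer ({x} : Set G))) := hC x hx1 ⟨1, by rw [hx, pow_one]⟩
  have hcard := card_inverting hCx ht htx
  set b := Nat.card ↥(Subgroup.centralizer ({x} : Set G) ⊓ Subgroup.centralizer ({t} : Set G)) with hb
  set I := Nat.card {g : G // IsConj t g ∧ g * x * g⁻¹ = x⁻¹} with hI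
  have hbm : b ∣ m := by
    rw [← hm t ht, hb]
    exact Subgroup.card_dvd_of_le inf_le_right
  have hbp : ¬ p ∣ b := fun h => hpm (h.trans hbm)
  have hxC : x ∈ Subgroup.centralizer ({x} : Set G) := Subgroup.mem_centralizer_singleton_iff.2 rfl
  have hpC : p ∣ Nat.card (Subgroup.centralizer ({x} : Set G)) := by
    rw [← hx, ← Subgroup.orderOf_mk x hxC]
    exact orderOf_dvd_natCard _
  have hpI : p ∣ I := by
    rw [← hcard] at hpC
    exact (hp.out.dvd_mul.1 hpC).resolve_right hbp
  obtain ⟨a, ha⟩ := hpI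
  have hcC : Nat.card (Subgroup.centralizer ({x} : Set G)) = p * (a * b) := by rw [← hcard, ha]; ring
  have hodd_ab : Odd (p * (a * b)) := by rw [← hcC]; exact hCx
  have hb_odd : Odd b := (Nat.odd_mul.1 (Nat.odd_mul.1 hodd_ab).2).2
  have ha_odd : Odd a := (Nat.odd_mul.1 (Nat.odd_mul.1 hodd_ab).2).1
  -- the congruence
  have hno' : ∀ χ : IrrCharacter G, ¬ p ∣ charDegree (χ : G → ℂ) := by
    intro χ hd
    apply hno
    refine ⟨χ, le_antisymm ?_ ?_⟩
    · exact (Nat.factorization_le_iff_dvd (charDegree_pos χ.2).ne' Nat.card_pos.ne').2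
        (Cfsg.Agent.Blocks.Knorr.charDegree_dvd χ.2) p
    · rw [hG]
      exact (hp.out.dvd_iff_one_le_factorization (charDegree_pos χ.2).ne').1 hd
  have hsq := sq_dvd_of_no_dz hG hno' hxp (hm t ht) hpm
  have hN0 : ∀ i : ZMod p, Nat.card {q : G × G // IsConj t q.1 ∧ IsConj t q.2 ∧ q.1 * q.2 = x ^ i.val} =
      if i = 0 then (Subgroup.centralizer ({t} : Set G)).index else I := by
    intro i
    have hcj : ∀ g : G, IsConj t g → g * g = 1 := by
      intro g hg
      obtain ⟨d, rfl⟩ := isConj_iff.1 hg
      calc d * t * d⁻¹ * (d * t * d⁻¹) = d * (t * t) * d⁻¹ := by group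
        _ = 1 := by rw [(orderOf_two ht).1]; group
    split_ifs with hi
    · subst hi
      rw [Cfsg.Agent.Blocks.Basic.index_centralizer_eq_ncard, ← Nat.card_coe_set_eq]
      refine Nat.card_congr
        { toFun := fun q => ⟨q.1.1, q.2.1⟩
          invFun := fun g => ⟨(g.1, g.1), g.2, g.2, ?_⟩
          left_inv := ?_
          right_inv := fun g => rfl }
      · rw [hcj g.1 g.2]
        simp
      · rintro ⟨⟨g, h⟩, h1, h2, h3⟩
        simp only [ZMod.val_zero, pow_zero] at h3
        have h4 : h = g := by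
          have := hcj g h1
          exact mul_left_cancel (h3.trans this.symm)
        simp only [h4]
    · rw [hI]
      have hinvx : ∀ g : G, g * x * g⁻¹ = x⁻¹ → g * x ^ i.val * g⁻¹ = (x ^ i.val)⁻¹ := by
        intro g hg
        rw [← conj_pow, hg, inv_pow]
      refine Nat.card_congr
        { toFun := fun q => ⟨q.1.1, q.2.1, ?_⟩
          invFun := fun g => ⟨(g.1, g.1 * x ^ i.val), g.2.1, ?_, ?_⟩
          left_inv := ?_
          right_inv := fun g => rfl }
      · obtain ⟨⟨g, h⟩, h1, h2, h3⟩ := q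
        simp only at h3 ⊢
        have hgg := hcj g h1
        have hhh := hcj h h2
        have hg' : g⁻¹ = g := inv_eq_of_mul_eq_one_left hgg
        have hh' : h⁻¹ = h := inv_eq_of_mul_eq_one_left hhh
        have h4 : g * x ^ i.val * g⁻¹ = (x ^ i.val)⁻¹ := by
          rw [← h3, mul_inv_rev, hg', hh']
          calc g * (g * h) * g = (g * g) * h * g := by group
            _ = h * g := by rw [hgg, one_mul]
        have h5 := congrArg (· ^ (i⁻¹ : ZMod p).val) h4
        simp only [conj_pow, inv_pow] at h5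
        rwa [pow_val_mul hxp, mul_inv_cancel₀ hi, ZMod.val_one, pow_one] at h5
      · obtain ⟨g, h1, h2⟩ := g
        simp only
        have hgg := hcj g h1
        have hg' : g⁻¹ = g := inv_eq_of_mul_eq_one_left hgg
        have h4 := hinvx g h2
        have h5 : (g * x ^ i.val) * (g * x ^ i.val) = 1 := by
          calc (g * x ^ i.val) * (g * x ^ i.val) = (g * x ^ i.val * g⁻¹) * (g * g) * x ^ i.val := by group
            _ = 1 := by rw [h4, hgg]; group
        have h6 : g * (g * x ^ i.val) = x ^ i.val := by rw [← mul_assoc, hgg, one_mul]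
        refine h1.trans (isConj_of_odd hgg h5 ?_)
        rw [h6]
        have h7 : orderOf (x ^ i.val) ∣ p := (orderOf_pow_dvd _).trans (dvd_of_eq hx)
        exact Odd.of_dvd_nat (hp.out.odd_of_ne_two hp2) h7
      · obtain ⟨g, h1, h2⟩ := g
        simp only
        rw [← mul_assoc, hcj g h1, one_mul]
      · rintro ⟨⟨g, h⟩, h1, h2, h3⟩
        simp only at h3 ⊢
        have : g * x ^ i.val = h := by rw [← h3, ← mul_assoc, hcj g h1, one_mul]
        simp only [this]
  have hT : Nat.card G = m * (Subgroup.centralizer ({t} : Set G)).index := by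
    rw [← hm t ht, Subgroup.card_mul_index]
  rw [Finset.sum_congr rfl fun i _ => hN0 i, Finset.sum_ite, Finset.sum_const, Finset.sum_const,
    Finset.filter_eq' Finset.univ (0 : ZMod p), if_pos (Finset.mem_univ _), Finset.card_singleton,
    Finset.filter_ne', Finset.card_erase_of_mem (Finset.mem_univ _), Finset.card_univ, ZMod.card,
    one_smul, smul_eq_mul, ha] at hsq
  have hpT : p ∣ (Subgroup.centralizer ({t} : Set G)).index := by
    rw [hT] at hpG
    exact (hp.out.dvd_mul.1 hpG).resolve_left hpm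
  obtain ⟨T', hT'⟩ := hpT
  have hpp := hp.out.pos
  have hGp : Nat.card G / p = m * T' := by
    rw [hT, hT', show m * (p * T') = p * (m * T') by ring, Nat.mul_div_cancel_left _ hpp]
  have h10 : p ∣ T' + (p - 1) * a := by
    rw [hT', show p * T' + (p - 1) * (p * a) = p * (T' + (p - 1) * a) by ring, pow_two] at hsq
    exact Nat.dvd_of_mul_dvd_mul_left hpp hsq
  have h11 : a ≡ T' [MOD p] := by
    have h12 : T' + (p - 1) * a + a ≡ 0 + a [MOD p] := ((Nat.modEq_zero_iff_dvd).2 h10).add_right a
    have h13 : T' + (p - 1) * a + a = T' + p * a := by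
      have : (p - 1) * a + a = p * a := by
        conv_lhs => rw [← Nat.succ_mul]
        congr 1
        omega
      omega
    rw [h13, zero_add] at h12
    have h14 : T' + p * a ≡ T' + 0 [MOD p] := by
      exact Nat.ModEq.add_left T' ((Nat.modEq_zero_iff_dvd).2 (dvd_mul_right p a))
    exact (h14.symm.trans h12).symm
  have h12 : (a * m) % p = (Nat.card G / p) % p := by
    have := h11.mul_right m
    rw [hGp, mul_comm m T']
    exact this
  have hinv : IsConj x x⁻¹ := isConj_iff.2 ⟨t, htx⟩
  have he := even_fus hxp hp2 hinv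
  have h13 := card_fus_mul hG hx hcC
  have h14 := card_fus_mul_card_sing (p := p) hxp
  have h15 := card_normalizer_zpowers hx
  refine hnum (fus (p := p) x).card a b x t rfl hx ht rfl ⟨_, h14.symm⟩ he hbm hb_odd ha_odd ?_ h13 h12
  have h16 : Nat.card (Subgroup.normalizer (Subgroup.zpowers x : Set G)) ∣ Nat.card G :=
    Subgroup.card_subgroup_dvd_card _
  rw [h15, hcC] at h16
  rwa [show p * ((fus (p := p) x).card * (a * b)) = (fus (p := p) x).card * (p * (a * b)) by ring]

end Cfsg.Agent.H695.Spor.InvolFus
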