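import Cfsg.Agent.H695.Spor.InvolFus
import Cfsg.Agent.H695.Spor.Tool
import Cfsg.Agent.H620.RowSporB
import Cfsg.Agent.H771.KJ3

/-!
# The row of `J3` for S4849 (helper695)
-/

set_option autoImplicit false

namespace Cfsg.Agent.H695.Spor.RowJ3

open Subgroup Cfsg Cfsg.Agent.H92.KTools Cfsg.Agent.H771.KTools Cfsg.Agent.H771.KJ3
open Cfsg.Spor Cfsg.Agent.J3.Core Cfsg.Agent.J3.Elts Cfsg.Agent.J2Type.CStruct Cfsg.Agent.J2Type.Model
open Cfsg.Agent.H713 Cfsg.Agent.H713.Count Cfsg.Agent.H620.SporCrit Cfsg.Agent.H665.NoPQ Cfsg.Agent.H695.Spor.Tool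

/-- no elements of order 16 -/
theorem no_sixteen {S : Type*} [Group S] {z : S} {Q : Subgroup (centralizer ({z} : Set S))}
    {v : Fin 5 → centralizer ({z} : Set S)} {ρ : centralizer ({z} : Set S) →* SP} {n : S}
    {u : centralizer ({z} : Set S)} (D : KFacts.J3.Facts z Q v ρ n u) : ¬ HasOrd S 16 := by
  have hzz : z * z = 1 := congrArg Subtype.val D.model.z_sq
  have hz1 : z ≠ 1 := fun h => D.model.z_ne (Subtype.ext h)
  rintro ⟨g, hg⟩
  have h1 : g ^ 8 ≠ 1 := pow_ne_one_of_lt_orderOf (by norm_num) (by rw [hg]; norm_num)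
  have h2 : g ^ 8 * g ^ 8 = 1 := by rw [← pow_add, ← pow_orderOf_eq_one g, hg]
  obtain ⟨c, hc⟩ := D.one _ h1 h2
  set w := c⁻¹ * g * c with hw
  have hw8 : w ^ 8 = z := by
    have h3 : w ^ 8 = c⁻¹ * g ^ 8 * c := by
      have := conj_pow (a := c⁻¹) (b := g) (i := 8)
      rw [inv_inv] at this
      exact this
    rw [h3, ← hc]; group
  have hwz : w * z = z * w := by rw [← hw8, ← pow_succ', ← pow_succ]
  have h4 := pow_eight D.model (c := ⟨w, mem_centralizer_singleton_iff.2 hwz⟩) (Subtype.ext (by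
    show w ^ 16 = 1
    rw [show (16 : ℕ) = 8 * 2 from rfl, pow_mul, hw8, pow_two, hzz]))
  have h5 : w ^ 8 = 1 := congrArg Subtype.val h4
  rw [hw8] at h5
  exact hz1 h5

theorem arith (e a b : ℕ) (he : e ∣ 17 - 1) (he2 : Even e) (he3 : e ≠ 16) (hb : b ∣ 1920) (hb2 : Odd b)
    (h1 : (e * (a * b)) % 17 = 50232960 / 17 % 17)
    (h2 : (a * 1920) % 17 = 50232960 / 17 % 17) : False := by
  norm_num at h1 h2 he
  have hb' : b ∣ 15 := by
    have h3 : Nat.Coprime b (2 ^ 7) := Nat.Coprime.pow_right 7 (Nat.coprime_two_right.2 hb2)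
    exact h3.dvd_of_dvd_mul_left (by norm_num; exact hb)
  have hbm : b ∈ ({1, 3, 5, 15} : Finset ℕ) := by
    have : b ∈ Nat.divisors 15 := Nat.mem_divisors.2 ⟨hb', by norm_num⟩
    have h4 : Nat.divisors 15 = {1, 3, 5, 15} := by decide +kernel
    rwa [h4] at this
  have hem : e ∈ ({2, 4, 8} : Finset ℕ) := by
    have : e ∈ (Nat.divisors 16).filter (fun e => Even e ∧ e ≠ 16) :=
      Finset.mem_filter.2 ⟨Nat.mem_divisors.2 ⟨he, by norm_num⟩, he2, he3⟩
    have h4 : (Nat.divisors 16).filter (fun e => Even e ∧ e ≠ 16) = {2, 4, 8} := by decide +kernel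
    rwa [h4] at this
  have ha' : a % 17 = 9 := by omega
  have key : ∀ e ∈ ({2, 4, 8} : Finset ℕ), ∀ b ∈ ({1, 3, 5, 15} : Finset ℕ),
      (e * (9 * b)) % 17 ≠ 8 := by decide +kernel
  apply key e hem b hbm
  have : (e * (a * b)) % 17 = (e * (9 * b)) % 17 := by
    rw [Nat.mul_mod e (a * b), Nat.mul_mod a b, ha', Nat.mul_mod e (9 * b), Nat.mul_mod 9 b]
  omega

theorem three_ne : ((3 : ℕ) : ZMod 17) ≠ 0 := by decide

theorem three_val : ((3 : ℕ) : ZMod 17).val = 3 := rfl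

theorem hasDZ_17 {K : Type*} [Group K] (h : Spor.IsoJ3 K) : HasDZ 17 K := by
  obtain ⟨-, z, Q, v, ρ, n, u, D⟩ := KFacts.J3.exists_facts h
  have h16 := no_sixteen D
  obtain ⟨hcard, hM, hone, -⟩ := Cfsg.Agent.CpAutJThree.base h
  have hfin : Finite K := Nat.finite_of_card_ne_zero (by rw [hcard]; norm_num)
  have hm : ∀ u : K, orderOf u = 2 → Nat.card (Subgroup.centralizer ({u} : Set K)) = 1920 :=
    fun u hu => (hM u hu).2.1
  have : Fact (Nat.Prime 17) := ⟨by norm_num⟩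
  refine InvolFus.hasDZ_of_card_fus (by norm_num) (by rw [hcard]; exact factorization_eq_one (by norm_num) (by norm_num))
    (by rw [hcard]; norm_num) (m := 1920) hm (by norm_num) ?_
  intro e a b x t hf hx ht hb he he2 hbm hbo hao hd h1 h2
  rw [hcard] at hd h1 h2
  refine arith e a b he he2 ?_ hbm hbo h1 h2
  rintro rfl
  apply not_conj_seventeen h16 hx
  have h3 : (fus (p := 17) x) = Finset.univ.erase (0 : ZMod 17) := by
    refine Finset.eq_of_subset_of_card_le ?_ ?_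
    · intro m hm
      exact Finset.mem_erase.2 ⟨(mem_fus.1 hm).1, Finset.mem_univ _⟩
    · rw [hf, Finset.card_erase_of_mem (Finset.mem_univ _), Finset.card_univ, ZMod.card]
  have h4 : ((3 : ℕ) : ZMod 17) ∈ fus (p := 17) x := by
    rw [h3]
    exact Finset.mem_erase.2 ⟨three_ne, Finset.mem_univ _⟩
  have h5 := (mem_fus.1 h4).2
  rwa [three_val] at h5

theorem tri_j3 {K : Type*} [Group K] (h : Spor.IsoJ3 K) : Tri K := by
  obtain ⟨hcard, hM, hone, -⟩ := Cfsg.Agent.CpAutJThree.base h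
  have hfin : Finite K := Nat.finite_of_card_ne_zero (by rw [hcard]; norm_num)
  have hev := Cfsg.Agent.H419.Spor.J3.evMix h
  have hm : ∀ u : K, orderOf u = 2 → Nat.card (Subgroup.centralizer ({u} : Set K)) = 1920 :=
    fun u hu => (hM u hu).2.1
  have : Fact (Nat.Prime 17) := ⟨by norm_num⟩
  have : Fact (Nat.Prime 19) := ⟨by norm_num⟩
  have h19 : HasDZ 19 K := by
    refine hasDZ_of_card (by norm_num) (by rw [hcard]; exact factorization_eq_one (by norm_num) (by norm_num))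
      (by rw [hcard]; norm_num) (m := 1920) hm (by norm_num) ?_
    intro e a b x t hx ht hb he he2 hbm hbo hao hd h1 h2
    rw [hcard] at hd h1 h2
    exact H620.RowSporB.arith_j3 e a b he he2 hbm hbo h1 h2
  obtain ⟨x, hx, h2, -⟩ := hev
  have h17 := H620.RowSporB.not_dvd_of_invol (p := 17) (fun u hu => by rw [hm u hu]; norm_num) x h2
  have h19' := H620.RowSporB.not_dvd_of_invol (p := 19) (fun u hu => by rw [hm u hu]; norm_num) x h2
  exact tri_of_vord (vord_of_dz (hasDZ_17 h) (by rw [hcard]; norm_num))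
    (vord_of_dz h19 (by rw [hcard]; norm_num)) ⟨x, hx, rfl⟩ (by norm_num)
    ((Nat.Prime.coprime_iff_not_dvd (by norm_num)).2 h17) ((Nat.Prime.coprime_iff_not_dvd (by norm_num)).2 h19')

end Cfsg.Agent.H695.Spor.RowJ3
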